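import Mathlib

/-!
Factorisation of non-scalar elements of SL_3 as products of two elements with prescribed regular characteristic
polynomial (the elementary proof in the manner of Sourour).
-/

set_option autoImplicit false

namespace Cfsg.Agent.PSL3Cover

open Matrix

variable {F : Type*} [Field F]

/-- Companion matrix of X^3 - t X^2 + s X - 1. -/
def comp3 (t s : F) : Matrix (Fin 3) (Fin 3) F := !![0, 0, 1; 1, 0, -s; 0, 1, t]

/-- Normal form of a + (rank one) of determinant one. -/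
def nc3 (a : F) : Matrix (Fin 3) (Fin 3) F := !![a, 0, 0; 1, (a ^ 2)⁻¹, 0; 0, 0, a]

/-- A is similar to M. -/
def Simil (A M : Matrix (Fin 3) (Fin 3) F) : Prop :=
  ∃ g : Matrix (Fin 3) (Fin 3) F, g.det ≠ 0 ∧ A * g = g * M

theorem Simil.symm {A M : Matrix (Fin 3) (Fin 3) F} (h : Simil A M) : Simil M A := by
  obtain ⟨g, hg, e⟩ := h
  have hu : IsUnit g.det := isUnit_iff_ne_zero.2 hg
  refine ⟨g⁻¹, (Matrix.isUnit_nonsing_inv_det g hu).ne_zero, ?_⟩
  calc M * g⁻¹ = g⁻¹ * (g * M) * g⁻¹ := by rw [Matrix.nonsing_inv_mul_cancel_left _ _ hu]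
    _ = g⁻¹ * A := by rw [← e, Matrix.mul_assoc, Matrix.mul_nonsing_inv_cancel_right _ _ hu]

theorem Simil.trans {A B C : Matrix (Fin 3) (Fin 3) F} (h : Simil A B) (h' : Simil B C) : Simil A C := by
  obtain ⟨g, hg, e⟩ := h
  obtain ⟨k, hk, e'⟩ := h'
  refine ⟨g * k, by rw [Matrix.det_mul]; exact mul_ne_zero hg hk, ?_⟩
  rw [← Matrix.mul_assoc, e, Matrix.mul_assoc, e', Matrix.mul_assoc]

/-- Cayley-Hamilton in dimension three. -/
def sec3 (A : Matrix (Fin 3) (Fin 3) F) : F :=
  A 0 0 * A 1 1 - A 0 1 * A 1 0 + (A 0 0 * A 2 2 - A 0 2 * A 2 0) + (A 1 1 * A 2 2 - A 1 2 * A 2 1)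

theorem cube_eq (A : Matrix (Fin 3) (Fin 3) F) :
    A * (A * A) = A.trace • (A * A) - sec3 A • A + A.det • (1 : Matrix (Fin 3) (Fin 3) F) := by
  ext i j
  fin_cases i <;> fin_cases j <;>
    simp [Matrix.mul_apply, Fin.sum_univ_three, Matrix.trace_fin_three, Matrix.det_fin_three, sec3] <;> ring

/-- The Krylov matrix. -/
def kry (A : Matrix (Fin 3) (Fin 3) F) (v : Fin 3 → F) : Matrix (Fin 3) (Fin 3) F :=
  Matrix.of fun i j => (![v, A *ᵥ v, A *ᵥ (A *ᵥ v)] j) i

theorem simil_comp {A : Matrix (Fin 3) (Fin 3) F} (hA : A.det = 1) {v : Fin 3 → F} (hv : (kry A v).det ≠ 0) :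
    Simil A (comp3 A.trace (sec3 A)) := by
  refine ⟨kry A v, hv, ?_⟩
  have h := cube_eq A
  rw [hA, one_smul] at h
  have h3 : A *ᵥ (A *ᵥ (A *ᵥ v)) = A.trace • (A *ᵥ (A *ᵥ v)) - sec3 A • (A *ᵥ v) + v := by
    have := congrArg (fun M => M *ᵥ v) h
    simpa [Matrix.add_mulVec, Matrix.sub_mulVec, Matrix.smul_mulVec, ← Matrix.mulVec_mulVec] using this
  ext i j
  rw [show (A * kry A v) i j = (A *ᵥ fun k => kry A v k j) i from rfl]
  fin_cases j
  · simp [kry, comp3, Matrix.mul_apply, Fin.sum_univ_three]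
  · simp [kry, comp3, Matrix.mul_apply, Fin.sum_univ_three]
  · simp only [kry, Matrix.of_apply, Fin.reduceFinMk, Matrix.cons_val]
    rw [h3]
    simp [comp3, Matrix.mul_apply, Fin.sum_univ_three]
    ring


/-- A non-scalar matrix of determinant one is similar to a companion matrix or to a normal form of rank one. -/
theorem exists_normal {A : Matrix (Fin 3) (Fin 3) F} (hA : A.det = 1) (hs : ∀ c : F, A ≠ c • 1) :
    (∃ t s, Simil A (comp3 t s)) ∨ ∃ a : F, a ≠ 0 ∧ Simil A (nc3 a) := by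
  by_cases hcy : ∃ v, (kry A v).det ≠ 0
  · obtain ⟨v, hv⟩ := hcy
    exact Or.inl ⟨_, _, simil_comp hA hv⟩
  push Not at hcy
  right
  -- a vector that is not an eigenvector
  obtain ⟨v, hv⟩ : ∃ v, LinearIndependent F ![v, A *ᵥ v] := by
    by_contra hne
    push Not at hne
    obtain ⟨c, hc⟩ : ∃ c : F, Matrix.toLin' A = c • LinearMap.id := by
      have h1 : ∀ v : Fin 3 → F, v ≠ 0 → ∃ c : F, A *ᵥ v = c • v := fun v hv0 => by
        have := hne v
        rw [LinearIndependent.pair_iff' hv0] at this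
        push Not at this
        obtain ⟨c, hc⟩ := this
        exact ⟨c, hc.symm⟩
      have hsingle : ∀ j, ∃ c : F, A *ᵥ Pi.single j 1 = c • Pi.single j 1 := fun j =>
        h1 _ (Pi.single_ne_zero_iff.2 one_ne_zero)
      choose d hd using hsingle
      have hdd : ∀ j, d j = d 0 := fun j => by
        by_cases hj : j = 0
        · rw [hj]
        obtain ⟨c, hc⟩ := h1 (Pi.single j 1 + Pi.single 0 1) (fun h => by
          have := congrFun h j; simp [hj] at this)
        rw [Matrix.mulVec_add, hd, hd] at hc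
        have e1 := congrFun hc j
        have e2 := congrFun hc 0
        simp [hj, Ne.symm hj] at e1 e2
        rw [e1, e2]
      refine ⟨d 0, LinearMap.pi_ext' fun j => LinearMap.ext_ring ?_⟩
      simp only [LinearMap.coe_comp, Function.comp_apply, LinearMap.coe_single, Matrix.toLin'_apply,
        LinearMap.smul_apply, LinearMap.id_apply]
      rw [hd, hdd]
    refine hs c (Matrix.toLin'.injective ?_)
    rw [hc, map_smul, Matrix.toLin'_one]
  obtain ⟨u, hu⟩ : ∃ u : Fin 3 → F, u ∉ Submodule.span F (Set.range ![v, A *ᵥ v]) := by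
    by_contra hne
    push Not at hne
    have h1 : Submodule.span F (Set.range ![v, A *ᵥ v]) = ⊤ := Submodule.eq_top_iff'.2 hne
    have h2 := finrank_span_eq_card hv
    rw [h1, finrank_top, Module.finrank_fin_fun, Fintype.card_fin] at h2
    omega
  let P : Matrix (Fin 3) (Fin 3) F := Matrix.of fun i j => (![v, A *ᵥ v, u] j) i
  have hP : P.det ≠ 0 := by
    have hli : LinearIndependent F ![v, A *ᵥ v, u] := by
      have := linearIndependent_finSnoc.2 ⟨hv, hu⟩
      have e : (Fin.snoc ![v, A *ᵥ v] u : Fin 3 → Fin 3 → F) = ![v, A *ᵥ v, u] := by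
        funext i; fin_cases i <;> rfl
      rwa [e] at this
    have : IsUnit P := Matrix.linearIndependent_cols_iff_isUnit.1 hli
    exact ((Matrix.isUnit_iff_isUnit_det P).1 this).ne_zero
  have hPu : IsUnit P.det := isUnit_iff_ne_zero.2 hP
  set M := P⁻¹ * A * P with hM
  have hAM : A * P = P * M := by rw [hM, Matrix.mul_assoc, Matrix.mul_nonsing_inv_cancel_left _ _ hPu]
  have hdetM : M.det = 1 := by
    have := congrArg Matrix.det hAM
    rw [Matrix.det_mul, Matrix.det_mul, hA, one_mul] at this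
    exact mul_left_cancel₀ hP (by rw [← this, mul_one])
  have hcy' : ∀ w, (kry M w).det = 0 := fun w => by
    have hk : P * kry M w = kry A (P *ᵥ w) := by
      ext i j
      rw [show (P * kry M w) i j = (P *ᵥ fun k => kry M w k j) i from rfl]
      fin_cases j <;>
        simp only [kry, Matrix.of_apply, Fin.reduceFinMk, Fin.zero_eta, Fin.mk_one, Matrix.cons_val,
          Matrix.mulVec_mulVec, ← Matrix.mul_assoc] <;>
        simp only [← hAM, Matrix.mul_assoc, ← Matrix.mulVec_mulVec]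
    have h1 := congrArg Matrix.det hk
    rw [hcy, Matrix.det_mul] at h1
    exact (mul_eq_zero.1 h1).resolve_left hP
  have hc0 : ∀ k, M k 0 = if k = 1 then 1 else 0 := fun k => by
    have h1 : A *ᵥ v = P *ᵥ Pi.single 1 1 := by
      rw [Matrix.mulVec_single_one]; funext i; simp [P]
    have h2 : P *ᵥ (fun k => M k 0) = P *ᵥ Pi.single 1 1 := by
      rw [← h1]
      funext i
      exact (congrFun (congrFun hAM i) 0).symm.trans rfl
    have h3 := congrArg (fun w => P⁻¹ *ᵥ w) h2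
    simp only [Matrix.mulVec_mulVec, Matrix.nonsing_inv_mul _ hPu, Matrix.one_mulVec] at h3
    rw [congrFun h3 k, Pi.single_apply]
  have h00 : M 0 0 = 0 := by rw [hc0, if_neg (by decide)]
  have h10 : M 1 0 = 1 := by rw [hc0, if_pos rfl]
  have h20 : M 2 0 = 0 := by rw [hc0, if_neg (by decide)]
  -- the cyclic vectors tested
  have h21 : M 2 1 = 0 := by
    have h := hcy' (Pi.single 0 1)
    simp [kry, Matrix.det_fin_three, Matrix.mulVec, dotProduct, Fin.sum_univ_three, h00, h10, h20] at h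
    exact h
  set α := M 0 1 with hα
  set β := M 1 1 with hβ
  set γ := M 0 2 with hγ
  set δ := M 1 2 with hδ
  set e := M 2 2 with he
  have hMe : M = !![0, α, γ; 1, β, δ; 0, 0, e] := by
    ext i j
    fin_cases i <;> fin_cases j <;> simp [h00, h10, h20, h21, hα, hβ, hγ, hδ, he]
  have hdet : -(α * e) = 1 := by
    rw [← hdetM, hMe]
    simp [Matrix.det_fin_three]
  have key : ∀ x y : F, (kry M ![1 + x, y, 1]).det = 0 := fun x y => hcy' _
  have key0 : ∀ x y : F, (kry M ![x, y, 1]).det = 0 := fun x y => hcy' _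
  have hg : e ^ 2 - β * e - α = 0 := by
    by_contra hne
    set t := (γ + e * δ) / (e ^ 2 - β * e - α) with ht
    have htt : t * (e ^ 2 - β * e - α) = γ + e * δ := by rw [ht, div_mul_cancel₀ _ hne]
    have h := key (-δ - (β - e) * t) t
    rw [hMe] at h
    simp [kry, Matrix.det_fin_three, dotProduct, Fin.sum_univ_three] at h
    have e1 : e * (-δ - (β - e) * t) = α * t + γ := by linear_combination htt
    apply hne
    grind
  have he0 : e ≠ 0 := fun h => by rw [h] at hdet; simp at hdet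
  have hb : β - e = (e ^ 2)⁻¹ := by
    have : (β - e) * e ^ 2 = 1 := by linear_combination hdet + (-e) * hg
    exact eq_inv_of_mul_eq_one_left this
  have hγ : γ = -(e * δ) := by
    have h1 := key0 0 0
    have h2 := key0 1 0
    rw [hMe] at h1 h2
    simp [kry, Matrix.det_fin_three, dotProduct, Fin.sum_univ_three] at h1 h2
    grind
  refine ⟨e, he0, Simil.trans ⟨P, hP, hAM⟩ ?_⟩
  refine ⟨!![1, -e, -δ; 0, 1, 0; 0, 0, 1], by simp [Matrix.det_fin_three], ?_⟩
  rw [hMe]
  ext i j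
  fin_cases i <;> fin_cases j <;> simp [nc3, Matrix.mul_apply, Fin.sum_univ_three, ← hb, hγ] <;> grind

/-- M is conjugate under SL_3 to D. -/
def InClass (D : Matrix.SpecialLinearGroup (Fin 3) F) (M : Matrix (Fin 3) (Fin 3) F) : Prop :=
  ∀ g : Matrix (Fin 3) (Fin 3) F, g.det ≠ 0 →
    ∃ P : Matrix.SpecialLinearGroup (Fin 3) F, g * M * g⁻¹ = ↑(P * D * P⁻¹)

/-- It suffices to factor the normal forms. -/
theorem cover (D : Matrix.SpecialLinearGroup (Fin 3) F)
    (h1 : ∀ t s : F, ∃ B C, InClass D B ∧ InClass D C ∧ Simil (comp3 t s) (B * C))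
    (h2 : ∀ a : F, a ≠ 0 → ∃ B C, InClass D B ∧ InClass D C ∧ Simil (nc3 a) (B * C))
    (G : Matrix.ProjectiveSpecialLinearGroup (Fin 3) F) (hG : G ≠ 1) :
    ∃ u v : Matrix.ProjectiveSpecialLinearGroup (Fin 3) F,
      G = (u * QuotientGroup.mk D * u⁻¹) * (v * QuotientGroup.mk D * v⁻¹) := by
  obtain ⟨A, rfl⟩ := QuotientGroup.mk_surjective G
  have hs : ∀ c : F, (A : Matrix (Fin 3) (Fin 3) F) ≠ c • 1 := fun c hc => hG (by
    refine (QuotientGroup.eq_one_iff A).2 (Subgroup.mem_center_iff.2 fun B => Subtype.ext ?_)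
    rw [Matrix.SpecialLinearGroup.coe_mul, Matrix.SpecialLinearGroup.coe_mul, hc, Matrix.smul_mul, Matrix.mul_smul,
      Matrix.one_mul, Matrix.mul_one])
  have key : ∀ N, Simil (A : Matrix (Fin 3) (Fin 3) F) N → (∃ B C, InClass D B ∧ InClass D C ∧ Simil N (B * C)) →
      ∃ P Q : Matrix.SpecialLinearGroup (Fin 3) F, A = P * D * P⁻¹ * (Q * D * Q⁻¹) := by
    rintro N hN ⟨B, C, hB, hC, hBC⟩
    obtain ⟨g, hg, e⟩ := hN.trans hBC
    obtain ⟨P, hP⟩ := hB g hg
    obtain ⟨Q, hQ⟩ := hC g hg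
    have hu : IsUnit g.det := isUnit_iff_ne_zero.2 hg
    refine ⟨P, Q, Subtype.ext ?_⟩
    rw [Matrix.SpecialLinearGroup.coe_mul, ← hP, ← hQ, show g * B * g⁻¹ * (g * C * g⁻¹) = g * (B * C) * g⁻¹ by
      rw [Matrix.mul_assoc, ← Matrix.mul_assoc g⁻¹, ← Matrix.mul_assoc g⁻¹, Matrix.nonsing_inv_mul _ hu,
        Matrix.one_mul, ← Matrix.mul_assoc, Matrix.mul_assoc g], ← e, Matrix.mul_nonsing_inv_cancel_right _ _ hu]
  obtain ⟨P, Q, hPQ⟩ : ∃ P Q : Matrix.SpecialLinearGroup (Fin 3) F, A = P * D * P⁻¹ * (Q * D * Q⁻¹) := by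
    rcases exists_normal A.2 hs with ⟨t, s, h⟩ | ⟨a, ha, h⟩
    · exact key _ h (h1 t s)
    · exact key _ h (h2 a ha)
  exact ⟨QuotientGroup.mk P, QuotientGroup.mk Q, by rw [hPQ]; rfl⟩

end Cfsg.Agent.PSL3Cover
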