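import Cfsg.Agent.PSL3Cover.Basic

/-!
The two kinds of classes used: a regular split torus element (more than three field elements) and an element of
order 13 (three field elements).
-/

set_option autoImplicit false

namespace Cfsg.Agent.PSL3Cover

open Matrix

variable {F : Type*} [Field F]

/-- An SL conjugate from a GL one, given that all cube scalings are available. -/
theorem exists_sl_conj {D : Matrix.SpecialLinearGroup (Fin 3) F} {A : Matrix (Fin 3) (Fin 3) F}
    {K : Matrix (Fin 3) (Fin 3) F} (hK : K.det = 1) (h : A * K = K * (D : Matrix (Fin 3) (Fin 3) F)) :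
    ∃ P : Matrix.SpecialLinearGroup (Fin 3) F, A = ↑(P * D * P⁻¹) := by
  let P : Matrix.SpecialLinearGroup (Fin 3) F := ⟨K, hK⟩
  have hP : (P : Matrix (Fin 3) (Fin 3) F) = K := rfl
  refine ⟨P, ?_⟩
  rw [Matrix.SpecialLinearGroup.coe_mul, Matrix.SpecialLinearGroup.coe_mul, hP, ← h, Matrix.mul_assoc, ← hP,
    ← Matrix.SpecialLinearGroup.coe_mul, mul_inv_cancel, Matrix.SpecialLinearGroup.coe_one, Matrix.mul_one]

section Torus

variable (l : Fin 3 → F)

theorem inClass_torus (hl : Function.Injective l) (D : Matrix.SpecialLinearGroup (Fin 3) F)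
    (hD : (D : Matrix (Fin 3) (Fin 3) F) = Matrix.diagonal l) {M : Matrix (Fin 3) (Fin 3) F}
    (hM : ∀ i, (M - l i • 1).det = 0) : InClass D M := by
  intro g hg
  set A := g * M * g⁻¹ with hAdef
  have hu : IsUnit g.det := isUnit_iff_ne_zero.2 hg
  have hA : ∀ i, (A - l i • 1).det = 0 := fun i => by
    have e : A - l i • 1 = g * (M - l i • 1) * g⁻¹ := by
      rw [Matrix.mul_sub, Matrix.sub_mul, Matrix.mul_smul, Matrix.mul_one, Matrix.smul_mul,
        Matrix.mul_nonsing_inv _ hu]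
    rw [e, Matrix.det_mul, Matrix.det_mul, hM, mul_zero, zero_mul]
  choose v hv0 hv using fun i => Matrix.exists_mulVec_eq_zero_iff.2 (hA i)
  have hev : ∀ i, A *ᵥ v i = l i • v i := fun i => by
    have := hv i
    rw [Matrix.sub_mulVec, Matrix.smul_mulVec, Matrix.one_mulVec, sub_eq_zero] at this
    exact this
  have hli : LinearIndependent F v :=
    Module.End.eigenvectors_linearIndependent' (Matrix.toLin' A) l hl v fun i =>
      ⟨Module.End.mem_eigenspace_iff.2 (by rw [Matrix.toLin'_apply]; exact hev i), hv0 i⟩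
  have hK : (Matrix.of fun i j => v j i).det ≠ 0 :=
    ((Matrix.isUnit_iff_isUnit_det _).1 (Matrix.linearIndependent_cols_iff_isUnit.1 hli)).ne_zero
  set K : Matrix (Fin 3) (Fin 3) F := Matrix.of fun i j => v j i
  refine exists_sl_conj (K := K * Matrix.diagonal ![K.det⁻¹, 1, 1]) ?_ ?_
  · rw [Matrix.det_mul, Matrix.det_diagonal, Fin.prod_univ_three]
    simp [hK]
  · have e : A * K = K * Matrix.diagonal l := by
      ext i j
      rw [Matrix.mul_diagonal]
      exact (congrFun (hev j) i).trans (mul_comm _ _)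
    rw [hD, ← Matrix.mul_assoc, e, Matrix.mul_assoc, Matrix.mul_assoc, Matrix.diagonal_mul_diagonal,
      Matrix.diagonal_mul_diagonal]
    congr 2
    funext i
    exact mul_comm _ _

theorem torus_cyclic (hl : Function.Injective l) (hprod : l 0 * l 1 * l 2 = 1) (D : Matrix.SpecialLinearGroup (Fin 3) F)
    (hD : (D : Matrix (Fin 3) (Fin 3) F) = Matrix.diagonal l) (t s : F) :
    ∃ B C, InClass D B ∧ InClass D C ∧ Simil (comp3 t s) (B * C) := by
  have hl1 : l 1 ≠ 0 := fun h => by simp [h] at hprod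
  have hl0 : l 0 ≠ 0 := fun h => by simp [h] at hprod
  let x := t - (l 0 * l 0 + l 1 * l 1 + l 2 * l 2)
  let d1 := l 0 * l 0
  let m2 := x + l 1 * l 1
  let m3 := l 2 * l 2
  let y := (d1 * m2 - l 0 * (l 0 * x) + d1 * m3 + m2 * m3 - s) / l 1
  refine ⟨!![l 0, 0, 0; 1, l 1, 0; 0, 1, l 2], !![l 0, x, y; 0, l 1, 0; 0, 0, l 2],
    inClass_torus l hl D hD fun i => ?_, inClass_torus l hl D hD fun i => ?_, ?_⟩
  · fin_cases i <;> simp [Matrix.det_fin_three]
  · fin_cases i <;> simp [Matrix.det_fin_three]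
  refine Simil.symm ?_
  set N := !![l 0, 0, 0; 1, l 1, 0; 0, 1, l 2] * !![l 0, x, y; 0, l 1, 0; 0, 0, l 2] with hN
  have hdet : N.det = 1 := by
    rw [hN, Matrix.det_mul]
    simp [Matrix.det_fin_three]
    linear_combination (l 0 * l 1 * l 2 + 1) * hprod
  have ht : N.trace = t := by
    rw [hN]
    simp [Matrix.trace_fin_three, x]
    ring
  have hy : y * l 1 = d1 * m2 - l 0 * (l 0 * x) + d1 * m3 + m2 * m3 - s := div_mul_cancel₀ _ hl1
  have hsec : sec3 N = s := by
    rw [hN]
    simp [sec3, Matrix.mul_apply, Fin.sum_univ_three]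
    simp only [d1, m2, m3] at hy
    linear_combination -hy
  have h := simil_comp hdet (v := Pi.single 0 1) (by
    rw [hN]
    simp [kry, Matrix.det_fin_three, dotProduct, Fin.sum_univ_three, hl0, hl1])
  rwa [ht, hsec] at h

theorem torus_rank_one (hl : Function.Injective l) (hprod : l 0 * l 1 * l 2 = 1)
    (D : Matrix.SpecialLinearGroup (Fin 3) F)
    (hD : (D : Matrix (Fin 3) (Fin 3) F) = Matrix.diagonal l) (a : F) (ha : a ≠ 0) :
    ∃ B C, InClass D B ∧ InClass D C ∧ Simil (nc3 a) (B * C) := by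
  have hne : ∀ i, l i ≠ 0 := fun i h => by fin_cases i <;> simp_all
  obtain ⟨σ, hσ⟩ : ∃ σ : Equiv.Perm (Fin 3), l 0 * l (σ 0) - a ≠ 0 := by
    by_cases h : l 0 * l 0 - a = 0
    · refine ⟨Equiv.swap 0 1, fun h' => ?_⟩
      rw [Equiv.swap_apply_left] at h'
      have e : l 0 * l 0 = l 0 * l 1 := by linear_combination h - h'
      exact absurd (hl (mul_left_cancel₀ (hne 0) e)) (by decide)
    · exact ⟨1, h⟩
  set g0 := l (σ 0) with hg0
  set g1 := l (σ 1) with hg1
  set g2 := l (σ 2) with hg2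
  have hg : g0 * g1 * g2 = 1 := by
    have := Equiv.prod_comp σ l
    rw [Fin.prod_univ_three, Fin.prod_univ_three] at this
    rw [← hprod]; exact this
  have hg0' : g0 ≠ 0 := hne _
  have hg1' : g1 ≠ 0 := hne _
  set w1 := l 0 * g0 - a with hw1
  set w2 := (l 0 * g0 * (l 1 * g1) - a * a) / a - w1 with hw2
  set w3 := ((a ^ 2)⁻¹ - a) - w1 - w2 with hw3
  set u12 := w2 / l 0 with hu12
  set u13 := w3 / l 0 with hu13
  set u23 := (w3 - w1 / g0 * u13) / l 1 with hu23
  set l32 := (w2 - w1 / g0 * u12) / g1 with hl32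
  refine ⟨!![l 0, 0, 0; w1 / g0, l 1, 0; w1 / g0, l32, l 2], !![g0, u12, u13; 0, g1, u23; 0, 0, g2],
    inClass_torus l hl D hD fun i => ?_, inClass_torus l hl D hD fun i => ?_, ?_⟩
  · fin_cases i <;> simp [Matrix.det_fin_three]
  · obtain ⟨j, rfl⟩ := σ.surjective i
    fin_cases j <;> simp [Matrix.det_fin_three, hg0, hg1, hg2]
  set T : Matrix (Fin 3) (Fin 3) F := !![a + w1, w2, w3; w1, a + w2, w3; w1, w2, a + w3] with hT
  have hll : l 0 ≠ 0 ∧ l 1 ≠ 0 ∧ l 2 ≠ 0 := ⟨hne 0, hne 1, hne 2⟩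
  have hsum : a ^ 2 * (a + w1 + w2 + w3) = 1 := by
    rw [hw3]; field_simp; ring
  have hm2 : a * (a + w1 + w2) = l 0 * g0 * (l 1 * g1) := by
    rw [hw2]; field_simp; ring
  have hw1' : a + w1 = l 0 * g0 := by rw [hw1]; ring
  have e11 : w1 / g0 * u12 + l 1 * g1 = a + w2 := by
    have hu : l 0 * u12 = w2 := by rw [hu12]; field_simp [hll.1]
    have hv : w1 / g0 * g0 = w1 := div_mul_cancel₀ _ hg0'
    refine mul_left_cancel₀ (mul_ne_zero hll.1 hg0') ?_
    linear_combination (w1 / g0 * g0) * hu + w2 * hv - hm2 + (a + w2) * hw1'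
  have e12 : w1 / g0 * u13 + l 1 * u23 = w3 := by rw [hu23]; field_simp [hll.2.1]; ring
  have e21 : w1 / g0 * u12 + l32 * g1 = w2 := by rw [hl32]; field_simp; ring
  have key : !![l 0, 0, 0; w1 / g0, l 1, 0; w1 / g0, l32, l 2] * !![g0, u12, u13; 0, g1, u23; 0, 0, g2] = T := by
    set X := a + w3 - (w1 / g0 * u13 + l32 * u23) with hX
    have hLU : !![l 0, 0, 0; w1 / g0, l 1, 0; w1 / g0, l32, 1] * !![g0, u12, u13; 0, g1, u23; 0, 0, X] = T := by
      ext i j
      fin_cases i <;> fin_cases j <;> simp [T, Matrix.mul_apply, Fin.sum_univ_three]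
      · exact hw1'.symm
      · rw [hu12]; field_simp [hll.1]
      · rw [hu13]; field_simp [hll.1]
      · exact div_mul_cancel₀ _ hg0'
      · exact e11
      · exact e12
      · exact div_mul_cancel₀ _ hg0'
      · exact e21
      · rw [hX]; ring
    have hdetT : T.det = 1 := by
      rw [← hsum, hT]
      simp [Matrix.det_fin_three]
      ring
    have hXv : X = l 2 * g2 := by
      have := congrArg Matrix.det hLU
      rw [Matrix.det_mul, hdetT] at this
      simp [Matrix.det_fin_three] at this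
      refine mul_left_cancel₀ (mul_ne_zero (mul_ne_zero hll.1 hll.2.1) (mul_ne_zero hg0' hg1')) ?_
      linear_combination this - hprod - (l 0 * l 1 * l 2) * hg
    rw [← hLU]
    ext i j
    fin_cases i <;> fin_cases j <;> simp [Matrix.mul_apply, Fin.sum_univ_three, hXv]
  rw [key]
  have hw1n : w1 ≠ 0 := hσ
  refine Simil.symm ⟨!![w1⁻¹, 1, -w2 / w1; 0, 1, 1; 0, 1, 0], by simp [Matrix.det_fin_three, hw1n], ?_⟩
  ext i j
  fin_cases i <;> fin_cases j <;> simp [T, nc3, Matrix.mul_apply, Fin.sum_univ_three, hw3] <;> field_simp <;> ring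

end Torus

end Cfsg.Agent.PSL3Cover
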