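import Cfsg.Agent.PSL3Cover.Class

/-!
The field of three elements: the class is the companion matrix of X^3 - X - 1, of order 13.
-/

set_option autoImplicit false

namespace Cfsg.Agent.PSL3Cover

open Matrix

/-- Targets with factors. -/
def table : List (Matrix (Fin 3) (Fin 3) (ZMod 3) × Matrix (Fin 3) (Fin 3) (ZMod 3) × Matrix (Fin 3) (Fin 3) (ZMod 3)) :=
  [ (!![0, 0, 1; 1, 0, 0; 0, 1, 0], !![0, 1, 0; 0, 0, 2; 2, 2, 0], !![0, 2, 2; 0, 0, 1; 2, 0, 0]),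
    (!![0, 0, 1; 1, 0, 2; 0, 1, 0], !![0, 1, 1; 2, 0, 0; 2, 2, 0], !![2, 0, 1; 1, 2, 2; 2, 1, 2]),
    (!![0, 0, 1; 1, 0, 1; 0, 1, 0], !![0, 1, 1; 0, 0, 2; 2, 1, 0], !![1, 2, 2; 1, 0, 2; 2, 0, 2]),
    (!![0, 0, 1; 1, 0, 0; 0, 1, 1], !![0, 2, 0; 0, 0, 1; 2, 1, 0], !![0, 2, 1; 0, 0, 2; 1, 0, 0]),
    (!![0, 0, 1; 1, 0, 2; 0, 1, 1], !![0, 1, 0; 0, 1, 2; 2, 0, 2], !![1, 2, 0; 0, 0, 1; 2, 0, 2]),
    (!![0, 0, 1; 1, 0, 1; 0, 1, 1], !![0, 1, 0; 0, 2, 2; 2, 0, 1], !![2, 2, 0; 0, 0, 1; 2, 0, 1]),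
    (!![0, 0, 1; 1, 0, 0; 0, 1, 2], !![0, 1, 0; 0, 0, 1; 1, 1, 0], !![0, 1, 1; 0, 0, 1; 1, 0, 0]),
    (!![0, 0, 1; 1, 0, 2; 0, 1, 2], !![0, 1, 0; 1, 0, 1; 1, 0, 0], !![0, 1, 2; 0, 0, 1; 1, 2, 0]),
    (!![0, 0, 1; 1, 0, 1; 0, 1, 2], !![0, 1, 0; 1, 0, 2; 2, 0, 0], !![0, 2, 1; 0, 0, 1; 2, 2, 0]),
    (!![1, 0, 0; 1, 1, 0; 0, 0, 1], !![0, 1, 1; 1, 0, 0; 0, 1, 0], !![1, 1, 0; 0, 0, 1; 1, 0, 2]),
    (!![2, 0, 0; 1, 1, 0; 0, 0, 2], !![0, 2, 1; 2, 0, 0; 0, 2, 0], !![2, 2, 0; 0, 0, 1; 2, 0, 1])]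

/-- Having the characteristic polynomial of the companion and the first basis vector cyclic. -/
def IsD (B : Matrix (Fin 3) (Fin 3) (ZMod 3)) : Prop :=
  B.det = 1 ∧ B.trace = 0 ∧ sec3 B = 2 ∧ (kry B ![1, 0, 0]).det ≠ 0

instance : Fact (Nat.Prime 3) := ⟨Nat.prime_three⟩

/-- Determinant by the expansion. -/
def det3 (M : Matrix (Fin 3) (Fin 3) (ZMod 3)) : ZMod 3 :=
  M 0 0 * M 1 1 * M 2 2 - M 0 0 * M 1 2 * M 2 1 - M 0 1 * M 1 0 * M 2 2 + M 0 1 * M 1 2 * M 2 0 +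
    M 0 2 * M 1 0 * M 2 1 - M 0 2 * M 1 1 * M 2 0

/-- The decidable form of IsD. -/
def IsD' (B : Matrix (Fin 3) (Fin 3) (ZMod 3)) : Prop :=
  det3 B = 1 ∧ B 0 0 + B 1 1 + B 2 2 = 0 ∧ sec3 B = 2 ∧
    det3 (Matrix.of fun i j => (![![1, 0, 0], fun k => B k 0, fun k => B k 0 * B 0 0 + B k 1 * B 1 0 + B k 2 * B 2 0] j) i) ≠ 0

instance (B : Matrix (Fin 3) (Fin 3) (ZMod 3)) : Decidable (IsD' B) :=
  inferInstanceAs (Decidable (_ ∧ _ ∧ _ ∧ _))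

theorem isD_of {B : Matrix (Fin 3) (Fin 3) (ZMod 3)} (h : IsD' B) : IsD B := by
  obtain ⟨h1, h2, h3, h4⟩ := h
  refine ⟨by rw [Matrix.det_fin_three]; exact h1, by rw [Matrix.trace_fin_three]; exact h2, h3, ?_⟩
  convert h4 using 2
  rw [show kry B ![1, 0, 0] = Matrix.of fun i j =>
    (![![1, 0, 0], fun k => B k 0, fun k => B k 0 * B 0 0 + B k 1 * B 1 0 + B k 2 * B 2 0] j) i from ?_]
  · rw [Matrix.det_fin_three]; rfl
  · ext i j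
    fin_cases j <;> simp [kry, Matrix.mulVec, dotProduct, Matrix.mul_apply, Fin.sum_univ_three]

theorem table_ok' : table.all (fun x => decide (x.2.1 * x.2.2 = x.1 ∧ IsD' x.2.1 ∧ IsD' x.2.2)) = true := by
  decide +kernel

theorem table_ok (x : _) (hx : x ∈ table) : x.2.1 * x.2.2 = x.1 ∧ IsD x.2.1 ∧ IsD x.2.2 :=
  (of_decide_eq_true (List.all_eq_true.1 table_ok' x hx)).imp id fun h => ⟨isD_of h.1, isD_of h.2⟩

theorem table_comp (t s : ZMod 3) : ∃ x ∈ table, x.1 = comp3 t s := by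
  have h : ∀ t s : ZMod 3, table.any (fun x => decide (x.1 = comp3 t s)) = true := by decide +kernel
  obtain ⟨x, hx, e⟩ := List.any_eq_true.1 (h t s)
  exact ⟨x, hx, of_decide_eq_true e⟩

theorem table_nc (a : ZMod 3) (ha : a ≠ 0) : ∃ x ∈ table, x.1 = nc3 a := by
  have h : ∀ a : ZMod 3, a ≠ 0 → table.any (fun x => decide (x.1 = nc3 a)) = true := by decide +kernel
  obtain ⟨x, hx, e⟩ := List.any_eq_true.1 (h a ha)
  exact ⟨x, hx, of_decide_eq_true e⟩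

theorem comp_pow : (comp3 (0 : ZMod 3) 2) ^ 13 = 1 := by
  have h4 : comp3 (0 : ZMod 3) 2 * comp3 0 2 * (comp3 0 2 * comp3 0 2) = !![0, 1, 1; 1, 1, 2; 1, 1, 1] := by
    decide +kernel
  have h13 : (!![0, 1, 1; 1, 1, 2; 1, 1, 1] : Matrix (Fin 3) (Fin 3) (ZMod 3)) * !![0, 1, 1; 1, 1, 2; 1, 1, 1] *
      !![0, 1, 1; 1, 1, 2; 1, 1, 1] * comp3 0 2 = 1 := by decide +kernel
  rw [show (13 : ℕ) = 4 + 4 + 4 + 1 from rfl, pow_add, pow_add, pow_add, pow_one, show (4 : ℕ) = 2 + 2 from rfl,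
    pow_add, pow_two, h4, h13]

variable {F : Type*} [Field F] (φ : ZMod 3 ≃+* F)

theorem map_sec3 (B : Matrix (Fin 3) (Fin 3) (ZMod 3)) : sec3 (B.map φ) = φ (sec3 B) := by
  simp [sec3]

theorem map_kry (B : Matrix (Fin 3) (Fin 3) (ZMod 3)) (v : Fin 3 → ZMod 3) :
    kry (B.map φ) (fun i => φ (v i)) = (kry B v).map φ := by
  ext i j
  fin_cases j <;> simp [kry, Matrix.mulVec, dotProduct, Matrix.mul_apply, Fin.sum_univ_three]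

theorem map_comp3 (t s : ZMod 3) : (comp3 t s).map φ = comp3 (φ t) (φ s) := by
  ext i j
  fin_cases i <;> fin_cases j <;> simp [comp3]

theorem map_nc3 (a : ZMod 3) : (nc3 a).map φ = nc3 (φ a) := by
  ext i j
  fin_cases i <;> fin_cases j <;> simp [nc3]

theorem map_det3 (B : Matrix (Fin 3) (Fin 3) (ZMod 3)) : (B.map φ).det = φ B.det :=
  ((φ : ZMod 3 →+* F).map_det B).symm

theorem inClass_three (D : Matrix.SpecialLinearGroup (Fin 3) F)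
    (hD : (D : Matrix (Fin 3) (Fin 3) F) = comp3 (φ 0) (φ 2)) {B : Matrix (Fin 3) (Fin 3) (ZMod 3)} (hB : IsD B) :
    InClass D (B.map φ) := by
  obtain ⟨hd, ht, hsec, hk⟩ := hB
  have hd' : (B.map φ).det = 1 := by rw [map_det3, hd, map_one]
  have hk' : (kry (B.map φ) (fun i => φ (![1, 0, 0] i))).det ≠ 0 := by
    rw [map_kry, map_det3]
    exact (map_ne_zero φ).2 hk
  have h1 := simil_comp hd' hk'
  rw [show (B.map φ).trace = φ 0 by rw [← ht]; simp [Matrix.trace_fin_three], map_sec3, hsec] at h1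
  intro g hg
  have hu : IsUnit g.det := isUnit_iff_ne_zero.2 hg
  have h2 : Simil (g * B.map φ * g⁻¹) (comp3 (φ 0) (φ 2)) :=
    Simil.trans ⟨g, hg, Matrix.nonsing_inv_mul_cancel_right _ _ hu⟩ h1
  obtain ⟨K, hK, e⟩ := h2
  refine exists_sl_conj (K := K.det⁻¹ • K) ?_ ?_
  · have hsq : ∀ x : ZMod 3, x ≠ 0 → x⁻¹ ^ 3 * x = 1 := by decide +kernel
    have := congrArg φ (hsq (φ.symm K.det) ((map_ne_zero φ.symm).2 hK))
    rw [map_mul, map_pow, map_inv₀, RingEquiv.apply_symm_apply, map_one] at this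
    rw [Matrix.det_smul, Fintype.card_fin, this]
  · rw [hD, Matrix.mul_smul, e, Matrix.smul_mul]

end Cfsg.Agent.PSL3Cover
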